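import Mathlib

/-!
Frobenius' divisibility theorem for the number of solutions of `g ^ m = 1`, with the tools for
counting elements by their order.
-/

set_option autoImplicit false

namespace CfsgLib.Counting

universe u

/-- A property of elements depending only on the generated cyclic subgroup: its count is divisible
by any common divisor of the totients of the orders. -/
theorem dvd_card_of_totient {G : Type*} [Group G] [Finite G] (Q : G → Prop)
    (hQ : ∀ g h : G, Q g → Subgroup.zpowers g = Subgroup.zpowers h → Q h) (k : ℕ)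
    (hk : ∀ g, Q g → k ∣ (orderOf g).totient) : k ∣ Nat.card {g : G // Q g} := by
  classical
  haveI := Fintype.ofFinite G
  haveI := Fintype.ofFinite (Subgroup G)
  rw [Nat.card_eq_fintype_card, Fintype.card_subtype,
    Finset.card_eq_sum_card_fiberwise (f := Subgroup.zpowers) (t := Finset.univ) (fun x _ => Finset.mem_univ _)]
  refine Finset.dvd_sum fun H _ => ?_
  by_cases hne : ((Finset.univ.filter Q).filter fun g => Subgroup.zpowers g = H).Nonempty
  swap
  · rw [Finset.not_nonempty_iff_eq_empty.mp hne]; simp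
  obtain ⟨g, hg⟩ := hne
  simp only [Finset.mem_filter, Finset.mem_univ, true_and] at hg
  obtain ⟨hgQ, rfl⟩ := hg
  have h1 : (Finset.univ.filter Q).filter (fun h => Subgroup.zpowers h = Subgroup.zpowers g) =
      Finset.univ.filter (fun h => Subgroup.zpowers h = Subgroup.zpowers g) := by
    ext h
    simp only [Finset.mem_filter, Finset.mem_univ, true_and]
    exact ⟨fun h' => h'.2, fun h' => ⟨hQ g h hgQ h'.symm, h'⟩⟩
  rw [h1, ← Fintype.card_subtype]
  refine (hk g hgQ).trans (dvd_of_eq ?_)
  have e : {h : G // Subgroup.zpowers h = Subgroup.zpowers g} ≃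
      {x : Subgroup.zpowers g // orderOf x = orderOf g} :=
    { toFun := fun h => ⟨⟨h.1, h.2.le (Subgroup.mem_zpowers h.1)⟩, by
        rw [Subgroup.orderOf_mk, ← Nat.card_zpowers, h.2, Nat.card_zpowers]⟩
      invFun := fun x => ⟨x.1.1, Subgroup.eq_of_le_of_card_ge (Subgroup.zpowers_le.mpr x.1.2) (by
        rw [Nat.card_zpowers, Nat.card_zpowers, Subgroup.orderOf_coe, x.2])⟩
      left_inv := fun h => rfl
      right_inv := fun x => rfl }
  rw [← Nat.card_eq_fintype_card, Nat.card_congr e, Nat.card_eq_fintype_card, Fintype.card_subtype,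
    IsCyclic.card_orderOf_eq_totient (by rw [← Nat.card_eq_fintype_card, Nat.card_zpowers])]

/-- Elements with `g ^ (r * s) = 1` and `r ∣ o(g)` as commuting pairs, for coprime `r`, `s`. -/
theorem card_split {G : Type*} [Group G] [Finite G] {r s : ℕ} (hco : Nat.Coprime r s) :
    Nat.card {g : G // g ^ (r * s) = 1 ∧ r ∣ orderOf g} =
      Nat.card (Σ u : {u : G // orderOf u = r}, {v : G // Commute (u : G) v ∧ v ^ s = 1}) := by
  have key : ∀ x : (Σ u : {u : G // orderOf u = r}, {v : G // Commute (u : G) v ∧ v ^ s = 1}),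
      ((x.1 : G) * (x.2 : G)) ^ (r * s) = 1 ∧ r ∣ orderOf ((x.1 : G) * (x.2 : G)) := by
    rintro ⟨⟨u, hu⟩, v, hc, hv⟩
    change (u * v) ^ (r * s) = 1 ∧ r ∣ orderOf (u * v)
    constructor
    · have hur : u ^ r = 1 := orderOf_dvd_iff_pow_eq_one.mp (dvd_of_eq hu)
      rw [hc.mul_pow, pow_mul u, hur, one_pow, one_mul, mul_comm, pow_mul, hv, one_pow]
    · have hov : orderOf v ∣ s := orderOf_dvd_of_pow_eq_one hv
      have := hc.orderOf_mul_eq_mul_orderOf_of_coprime (by rw [hu]; exact hco.coprime_dvd_right hov)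
      rw [this, hu]; exact dvd_mul_right _ _
  refine (Nat.card_eq_of_bijective (fun x => ⟨(x.1 : G) * (x.2 : G), key x⟩) ?_).symm
  constructor
  · rintro ⟨⟨u, hu⟩, v, hc, hv⟩ ⟨⟨u', hu'⟩, v', hc', hv'⟩ h
    have h' : u * v = u' * v' := congrArg Subtype.val h
    have h1 : u ^ s = u' ^ s := by
      have := congrArg (· ^ s) h'
      simpa [hc.mul_pow, hc'.mul_pow, hv, hv'] using this
    have huu : u = u' := by
      obtain ⟨i, hi⟩ := exists_pow_eq_self_of_coprime (x := u) (n := s) (hu ▸ hco.symm)
      obtain ⟨j, hj⟩ := exists_pow_eq_self_of_coprime (x := u') (n := s) (hu' ▸ hco.symm)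
      have e1 : u' = (u ^ s) ^ j := by rw [h1, hj]
      have e2 : u = (u' ^ s) ^ i := by rw [← h1, hi]
      have hcomm : Commute u u' := by rw [e1]; exact (Commute.refl u).pow_right s |>.pow_right j
      have : (u * u'⁻¹) ^ s = 1 := by rw [hcomm.inv_right.mul_pow, inv_pow, h1, mul_inv_cancel]
      have hr : (u * u'⁻¹) ^ r = 1 := by
        rw [hcomm.inv_right.mul_pow, inv_pow, ← hu, pow_orderOf_eq_one, hu, ← hu', pow_orderOf_eq_one]; simp
      have := pow_gcd_eq_one.mpr ⟨hr, this⟩
      rw [hco.gcd_eq_one, pow_one, mul_inv_eq_one] at this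
      exact this
    subst huu
    have hvv : v = v' := mul_left_cancel h'
    subst hvv; rfl
  · rintro ⟨g, hg, hr⟩
    have hab := Nat.gcd_eq_gcd_ab r s
    rw [hco.gcd_eq_one] at hab
    set u := g ^ ((s : ℤ) * Nat.gcdB r s) with hu
    set v := g ^ ((r : ℤ) * Nat.gcdA r s) with hv
    have hur : u ^ r = 1 := by
      rw [hu, ← zpow_natCast, ← zpow_mul]
      calc g ^ ((s : ℤ) * Nat.gcdB r s * (r : ℤ)) = (g ^ (r * s)) ^ Nat.gcdB r s := by
            rw [← zpow_natCast, ← zpow_mul]; congr 1; push_cast; ring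
        _ = 1 := by rw [hg, one_zpow]
    have hvs : v ^ s = 1 := by
      rw [hv, ← zpow_natCast, ← zpow_mul]
      calc g ^ ((r : ℤ) * Nat.gcdA r s * (s : ℤ)) = (g ^ (r * s)) ^ Nat.gcdA r s := by
            rw [← zpow_natCast, ← zpow_mul]; congr 1; push_cast; ring
        _ = 1 := by rw [hg, one_zpow]
    have hc : Commute u v := (Commute.refl g).zpow_zpow _ _
    have huv : u * v = g := by
      rw [hu, hv, ← zpow_add, show (s : ℤ) * Nat.gcdB r s + (r : ℤ) * Nat.gcdA r s = 1 by omega, zpow_one]
    have hou : orderOf u = r := by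
      refine Nat.dvd_antisymm (orderOf_dvd_of_pow_eq_one hur) ?_
      have h3 : orderOf g ∣ orderOf u * orderOf v := by
        rw [← huv]; exact hc.orderOf_mul_dvd_mul_orderOf
      exact (hco.coprime_dvd_right (orderOf_dvd_of_pow_eq_one hvs)).dvd_of_dvd_mul_right (hr.trans h3)
    exact ⟨⟨⟨u, hou⟩, v, hc, hvs⟩, Subtype.ext huv⟩

theorem ncard_isConj {G : Type*} [Group G] [Finite G] (u : G) :
    {h : G | IsConj u h}.ncard = (Subgroup.centralizer ({u} : Set G)).index := by
  have h1 : {h : G | IsConj u h} = MulAction.orbit (ConjAct G) u := by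
    ext h; rw [ConjAct.mem_orbit_conjAct]; exact isConj_comm
  rw [h1, ← Nat.card_coe_set_eq, Nat.card_congr (MulAction.orbitEquivQuotientStabilizer (ConjAct G) u),
    ← Subgroup.index_eq_card, Subgroup.centralizer_eq_comap_stabilizer]
  exact (Subgroup.index_comap_of_surjective (f := (ConjAct.toConjAct : G ≃* ConjAct G).toMonoidHom) _
    ConjAct.toConjAct.surjective).symm

/-- A sum of a class function over a union of classes. -/
theorem dvd_sum_of_class {G : Type*} [Group G] [Finite G] [Fintype G] (P : G → Prop) [DecidablePred P]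
    (f : G → ℕ) (k : ℕ) (hP : ∀ u w : G, IsConj u w → P u → P w) (hf : ∀ u w : G, IsConj u w → f u = f w)
    (hk : ∀ u, P u → k ∣ (Subgroup.centralizer ({u} : Set G)).index * f u) :
    k ∣ ∑ u ∈ Finset.univ.filter P, f u := by
  classical
  haveI := Fintype.ofFinite (ConjClasses G)
  rw [← Finset.sum_fiberwise_of_maps_to (g := ConjClasses.mk) (t := Finset.univ) (fun x _ => Finset.mem_univ _)]
  refine Finset.dvd_sum fun c _ => ?_
  by_cases hne : ((Finset.univ.filter P).filter fun g => ConjClasses.mk g = c).Nonempty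
  swap
  · rw [Finset.not_nonempty_iff_eq_empty.mp hne]; simp
  obtain ⟨u, hu⟩ := hne
  simp only [Finset.mem_filter, Finset.mem_univ, true_and] at hu
  obtain ⟨huP, rfl⟩ := hu
  have h1 : (Finset.univ.filter P).filter (fun g => ConjClasses.mk g = ConjClasses.mk u) =
      Finset.univ.filter (fun g => IsConj u g) := by
    ext g
    simp only [Finset.mem_filter, Finset.mem_univ, true_and, ConjClasses.mk_eq_mk_iff_isConj]
    exact ⟨fun h => h.2.symm, fun h => ⟨hP u g h huP, h.symm⟩⟩
  rw [h1, Finset.sum_congr rfl (fun g hg => (hf u g (Finset.mem_filter.mp hg).2).symm), Finset.sum_const,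
    smul_eq_mul]
  refine (hk u huP).trans (dvd_of_eq ?_)
  rw [← ncard_isConj, Set.ncard_eq_toFinset_card', Set.toFinset_setOf]

theorem card_pow_eq_one_gcd {G : Type*} [Group G] [Finite G] (m : ℕ) :
    Nat.card {g : G // g ^ m = 1} = Nat.card {g : G // g ^ Nat.gcd m (Nat.card G) = 1} := by
  refine Nat.card_congr (Equiv.subtypeEquivRight fun g => ⟨fun h => pow_gcd_eq_one.mpr ⟨h, pow_card_eq_one'⟩, fun h => ?_⟩)
  obtain ⟨c, hc⟩ := Nat.gcd_dvd_left m (Nat.card G)
  rw [hc, pow_mul, h, one_pow]

theorem frobenius_aux (N : ℕ) : ∀ (G : Type u) [Group G] [Finite G], Nat.card G ≤ N →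
    ∀ m : ℕ, m ∣ Nat.card G → m ∣ Nat.card {g : G // g ^ m = 1} := by
  induction N with
  | zero => intro G _ _ h; have := Nat.card_pos (α := G); omega
  | succ N ih =>
    intro G _ _ hN m
    induction hk : Nat.card G / m using Nat.strong_induction_on generalizing m with
    | _ k ihk =>
    intro hm
    have hG := Nat.card_pos (α := G)
    have hm0 : 0 < m := Nat.pos_of_dvd_of_pos hm hG
    by_cases hk1 : Nat.card G / m = 1
    · have hmG : m = Nat.card G := by
        have := Nat.div_mul_cancel hm
        rw [hk1, one_mul] at this; exact this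
      rw [Nat.card_congr (Equiv.subtypeUnivEquiv (fun g : G => hmG ▸ pow_card_eq_one'))]
      exact hm
    obtain ⟨p, hp, hpd⟩ := Nat.exists_prime_and_dvd hk1
    have hmp : m * p ∣ Nat.card G := by
      have := Nat.mul_dvd_mul_left m hpd
      rwa [Nat.mul_div_cancel' hm] at this
    have hbig : m ∣ Nat.card {g : G // g ^ (m * p) = 1} := by
      refine (dvd_mul_right m p).trans (ihk _ ?_ (m * p) rfl hmp)
      rw [← hk, ← Nat.div_div_eq_div_mul]
      exact Nat.div_lt_self (Nat.div_pos (Nat.le_of_dvd hG hm) hm0) hp.one_lt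
    obtain ⟨a, m', hm', rfl⟩ := Nat.exists_eq_pow_mul_and_not_dvd hm0.ne' p hp.ne_one
    set r := p ^ (a + 1) with hrdef
    have hco : Nat.Coprime r m' := Nat.Coprime.pow_left _ (hp.coprime_iff_not_dvd.mpr hm')
    have hrm : p ^ a * m' * p = r * m' := by rw [hrdef]; ring
    rw [hrm] at hbig hmp
    classical
    haveI := Fintype.ofFinite G
    have hsplit : Nat.card {g : G // g ^ (r * m') = 1} = Nat.card {g : G // g ^ (p ^ a * m') = 1} +
        Nat.card {g : G // g ^ (r * m') = 1 ∧ r ∣ orderOf g} := by
      simp only [Nat.card_eq_fintype_card, Fintype.card_subtype]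
      rw [← Finset.card_union_of_disjoint]
      · congr 1
        ext g
        simp only [Finset.mem_union, Finset.mem_filter, Finset.mem_univ, true_and]
        constructor
        · intro h
          by_cases hr : r ∣ orderOf g
          · exact Or.inr ⟨h, hr⟩
          · left
            rw [← orderOf_dvd_iff_pow_eq_one] at h ⊢
            obtain ⟨d₁, d₂, hd1, hd2, hd⟩ := exists_dvd_and_dvd_of_dvd_mul h
            obtain ⟨j, hj, rfl⟩ := (Nat.dvd_prime_pow hp).mp (hrdef ▸ hd1)
            have hja : j ≤ a := by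
              by_contra hc
              apply hr
              rw [hd, hrdef, show j = a + 1 by omega]; exact dvd_mul_right _ _
            rw [hd]; exact mul_dvd_mul (pow_dvd_pow p hja) hd2
        · rintro (h | h)
          · rw [hrdef, pow_succ', mul_assoc, mul_comm p, pow_mul, h, one_pow]
          · exact h.1
      · rw [Finset.disjoint_left]
        intro g hg hg'
        simp only [Finset.mem_filter, Finset.mem_univ, true_and] at hg hg'
        have h1 : r ∣ p ^ a * m' := hg'.2.trans (orderOf_dvd_of_pow_eq_one hg)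
        have h2 := hco.dvd_of_dvd_mul_right h1
        rw [hrdef, Nat.pow_dvd_pow_iff_le_right hp.one_lt] at h2
        omega
    rw [hsplit] at hbig
    refine (Nat.dvd_add_left ?_).mp hbig
    refine Nat.Coprime.mul_dvd_of_dvd_of_dvd (Nat.Coprime.pow_left _ (hp.coprime_iff_not_dvd.mpr hm')) ?_ ?_
    · -- the power of `p`
      refine dvd_card_of_totient _ ?_ _ ?_
      · intro g h hgQ hz
        have : orderOf g = orderOf h := by rw [← Nat.card_zpowers, hz, Nat.card_zpowers]
        rw [← orderOf_dvd_iff_pow_eq_one] at hgQ ⊢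
        rwa [← this]
      · intro g hg
        refine dvd_trans ?_ (Nat.totient_dvd_of_dvd hg.2)
        rw [hrdef, Nat.totient_prime_pow hp (Nat.succ_pos a), show a + 1 - 1 = a by omega]
        exact dvd_mul_right _ _
    · -- the part prime to `p`
      rw [card_split hco, Nat.card_sigma]
      rw [← Finset.sum_subtype (Finset.univ.filter fun u : G => orderOf u = r) (fun u => by simp)
        (fun u : G => Nat.card {v : G // Commute u v ∧ v ^ m' = 1})]
      refine dvd_sum_of_class (fun u => orderOf u = r) (fun u => Nat.card {v : G // Commute u v ∧ v ^ m' = 1}) m' ?_ ?_ ?_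
      · intro u w huw hu
        obtain ⟨c, rfl⟩ := isConj_iff.mp huw
        rw [← hu]; exact orderOf_injective (MulAut.conj c).toMonoidHom (MulAut.conj c).injective u
      · intro u w huw
        obtain ⟨c, rfl⟩ := isConj_iff.mp huw
        refine Nat.card_congr ((MulAut.conj c).toEquiv.subtypeEquiv fun v => ?_)
        show Commute u v ∧ v ^ m' = 1 ↔ Commute (c * u * c⁻¹) (MulAut.conj c v) ∧ (MulAut.conj c v) ^ m' = 1
        rw [← map_pow, EmbeddingLike.map_eq_one_iff, MulAut.conj_apply, Commute.conj_iff]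
      intro u hu
      set C := Subgroup.centralizer ({u} : Set G) with hC
      have huC : u ∈ C := Subgroup.mem_centralizer_singleton_iff.mpr rfl
      set Z : Subgroup C := Subgroup.zpowers ⟨u, huC⟩ with hZ
      haveI hZn : Z.Normal := by
        refine ⟨fun z hz c => ?_⟩
        obtain ⟨i, rfl⟩ := Subgroup.mem_zpowers_iff.mp hz
        have hcu : Commute c (⟨u, huC⟩ : C) := Subtype.ext (Subgroup.mem_centralizer_singleton_iff.mp c.2)
        rw [(hcu.zpow_right i).eq, mul_inv_cancel_right]; exact Subgroup.zpow_mem_zpowers _ i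
      have hZc : Nat.card Z = r := by rw [hZ, Nat.card_zpowers, Subgroup.orderOf_mk, hu]
      have hCQ : Nat.card C = Nat.card (C ⧸ Z) * r := by
        rw [← hZc]; exact Subgroup.card_eq_card_quotient_mul_card_subgroup Z
      have hr1 : 1 < r := Nat.one_lt_pow (Nat.succ_ne_zero a) hp.one_lt
      have hlt : Nat.card (C ⧸ Z) ≤ N := by
        have h1 : Nat.card C ≤ Nat.card G := Nat.le_of_dvd hG (Subgroup.card_subgroup_dvd_card C)
        have h2 : Nat.card (C ⧸ Z) < Nat.card C := by
          rw [hCQ]; exact lt_mul_of_one_lt_right Nat.card_pos hr1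
        omega
      have heq : Nat.card {v : G // Commute u v ∧ v ^ m' = 1} = Nat.card {w : C ⧸ Z // w ^ m' = 1} := by
        refine Nat.card_eq_of_bijective (fun v => ⟨QuotientGroup.mk' Z
          ⟨v.1, Subgroup.mem_centralizer_singleton_iff.mpr v.2.1.eq.symm⟩, ?_⟩) ⟨?_, ?_⟩
        · rw [← map_pow]
          have : (⟨v.1, Subgroup.mem_centralizer_singleton_iff.mpr v.2.1.eq.symm⟩ : C) ^ m' = 1 := Subtype.ext v.2.2
          rw [this, map_one]
        · rintro ⟨v, hv, hv'⟩ ⟨w, hw, hw'⟩ h
          have h' := congrArg Subtype.val h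
          simp only [QuotientGroup.mk'_apply, QuotientGroup.eq] at h'
          obtain ⟨i, hi⟩ := Subgroup.mem_zpowers_iff.mp h'
          have hi' : u ^ i = v⁻¹ * w := congrArg Subtype.val hi
          have hcv : Commute v⁻¹ w := by
            have : w = v * u ^ i := by rw [hi']; group
            rw [this]
            exact (Commute.refl v).inv_left.mul_right ((hv.symm.inv_left).zpow_right i)
          have e1 : (u ^ i) ^ m' = 1 := by rw [hi', hcv.mul_pow, inv_pow, hv', hw', inv_one, one_mul]
          have e2 : (u ^ i) ^ r = 1 := by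
            rw [← zpow_natCast, ← zpow_mul, mul_comm, zpow_mul, zpow_natCast, ← hu, pow_orderOf_eq_one, one_zpow]
          have := pow_gcd_eq_one.mpr ⟨e2, e1⟩
          rw [hco.gcd_eq_one, pow_one, hi', inv_mul_eq_one] at this
          exact Subtype.ext this
        · rintro ⟨w, hw⟩
          obtain ⟨c, rfl⟩ := QuotientGroup.mk'_surjective Z w
          rw [← map_pow] at hw
          obtain ⟨i, hi⟩ := Subgroup.mem_zpowers_iff.mp ((QuotientGroup.eq_one_iff _).mp hw)
          obtain ⟨z, hz⟩ := (powCoprime (G := Z) (n := m') (hZc ▸ hco)).surjective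
            ⟨c ^ m', (QuotientGroup.eq_one_iff _).mp hw⟩
          have hz' : (z : C) ^ m' = c ^ m' := congrArg Subtype.val hz
          have hcz : Commute c (z : C) := by
            obtain ⟨j, hj⟩ := Subgroup.mem_zpowers_iff.mp z.2
            rw [← hj]
            exact Commute.zpow_right (Subtype.ext (Subgroup.mem_centralizer_singleton_iff.mp c.2)) j
          have hcz1 : (c * (z : C)⁻¹) ^ m' = 1 := by rw [hcz.inv_right.mul_pow, inv_pow, hz', mul_inv_cancel]
          refine ⟨⟨((c * (z : C)⁻¹ : C) : G), ?_, congrArg Subtype.val hcz1⟩, ?_⟩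
          · exact (Subgroup.mem_centralizer_singleton_iff.mp (c * (z : C)⁻¹).2).symm
          · apply Subtype.ext
            show QuotientGroup.mk' Z (c * (z : C)⁻¹) = QuotientGroup.mk' Z c
            rw [map_mul, map_inv, (show QuotientGroup.mk' Z (z : C) = 1 from (QuotientGroup.eq_one_iff _).mpr z.2),
              inv_one, mul_one]
      rw [heq, card_pow_eq_one_gcd]
      refine dvd_trans ?_ (Nat.mul_dvd_mul_left C.index (ih (C ⧸ Z) hlt _ (Nat.gcd_dvd_right _ _)))
      rw [← Nat.gcd_mul_left]
      refine Nat.dvd_gcd (dvd_mul_left _ _) ?_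
      have h1 : m' ∣ C.index * Nat.card (C ⧸ Z) * r := by
        rw [mul_assoc, ← hCQ, C.index_mul_card]; exact (dvd_mul_left m' r).trans hmp
      exact hco.symm.dvd_of_dvd_mul_right h1

/-- **Frobenius**: if `m` divides `|G|`, it divides the number of solutions of `g ^ m = 1`. -/
theorem card_pow_eq_one_dvd {G : Type*} [Group G] [Finite G] {m : ℕ} (hm : m ∣ Nat.card G) :
    m ∣ Nat.card {g : G // g ^ m = 1} :=
  frobenius_aux (Nat.card G) G le_rfl m hm

/-- For an arbitrary exponent, the gcd with the order divides the count. -/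
theorem gcd_dvd_card_pow_eq_one {G : Type*} [Group G] [Finite G] (m : ℕ) :
    Nat.gcd m (Nat.card G) ∣ Nat.card {g : G // g ^ m = 1} := by
  rw [card_pow_eq_one_gcd]
  exact card_pow_eq_one_dvd (Nat.gcd_dvd_right _ _)

end CfsgLib.Counting
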